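import Cfsg.Agent.TwoF.SpD.Tool2
import Cfsg.Agent.TAB.Th.Main
import Cfsg.Agent.Mrg.Omega.TwoF.RowTh
import Cfsg.Agent.S2057
import Cfsg.Agent.S2083

/-!
# TwoF SP-D: the row of the Thompson group (helper55)
-/

set_option autoImplicit false
set_option maxHeartbeats 400000
set_option maxRecDepth 100000

namespace Cfsg.Agent.TwoF.SpD.Th

open Cfsg Subgroup Cfsg.Agent.TwoF.Gen Cfsg.Agent.TAB.Eng Cfsg.Agent.TwoF.SpO Cfsg.Agent.TAB.Th
open Cfsg.Spor (Th)

/-- order 2 -/
def c2 : List (ℕ × List ℤ) := [(1, [-6967271914057728000, 29842080113664000, 2480980948992000, -158841285120000,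
    406254446051328, 190856445696000, 11127120076800, 15833430982656, 985556678400, 4064110848000, 1200365568000,
    -4331017506816, 725018112000, -306361958400, 309765980160, 956261376000, 669382963200, 66369466368, -430761037824,
    57178294875, -535631781888, 187189704000, -393289924608, -227096576000, -170732470272, 1824342912, -223641600000,
    -77635584000, 133688475648, 114162944000])]

/-- order 3 -/
def c3 : List (ℕ × List ℤ) := [(2, [420120110592000, 106724060352000, 79479429120000, -2496469248000, -3184068206592,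
    3120586560000, -322401171456, 697475100672, -196665537600, -153824832000, -38444544000, -96903765504,
    -10844288000, -33870016512, 28531077120, -4572288000, -8230118400, -11177284608, -4701805056, -26330659875,
    -27308316672, -8586162000, -23556427776, -12443648000, -12591767552, -7786034928, -12207104000, -11446272000,
    -8559323136, -6911744000]), (3, [2011535089514496000, 14270531498496000, 900825090048000, 114563248128000,
    -36739248537600, 13826598912000, 41392886685696, 10034160353280, -4135634496000, -866681856000, -1195886592000,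
    -317568356352, -1134002688000, 480988274688, -104808038400, -1007769600000, -1453987584000, -1224641617920,
    -1063801589760, -558232023375, -1501012353024, -731813940000, -1358079270912, -495257190400, -546105950208,
    -696051976032, -597602304000, -659902464000, -671761299456, -455936768000]), (4, [136118915831808000,
    1062158505408000, 36682813440000, 7283654784000, -3633103466496, -267478848000, 2456525740032, 611003990016,
    -318917088000, -102386592000, -124291584000, 0, -103795328000, 22466543616, -10364350464, -76095936000,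
    -114535814400, -90251366400, -81968620032, -43296859125, -108606210048, -56862000000, -96566722560, -37175398400,
    -42187378688, -52840789344, -45893120000, -50512896000, -53733528576, -34201216000])]

/-- order 5 -/
def c5 : List (ℕ × List ℤ) := [(7, [3080880811008000, 13552261632000, -2096160768000, -269764992000, -503463776256,
    -393216768000, -61817333760, -44040278016, -23204361600, -19198944000, -26873856000, -858843648, -16266432000,
    -9843296256, -6016757760, -3359232000, -6172588800, -3424923648, -6472866816, -4149741375, -4822364160,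
    -3620214000, -3730987008, -2333184000, -3271876608, -4083053184, -2875392000, -2985984000, -2998674432,
    -2264192000])]

/-- order 7 -/
def c7 : List (ℕ × List ℤ) := [(11, [1260360331776000, 5082098112000, 0, -82301184000, -408213872640, -61725888000,
    -111271200768, 3950456832, -5658206400, -4898880000, -5598720000, -2751211008, -3098368000, -3063619584,
    -116453376, -1306368000, 0, 902513664, -393030144, -991531125, -31352832, -284310000, 0, 0, -198295552,
    -228042864, 186368000, 0, 271724544, 0])]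

theorem ok2 : okOrdP D rowA (fun u => D.ord u % 7 == 0) 2 c2 = true := by decide +kernel

theorem ok3 : okOrdP D rowA (fun u => D.ord u % 7 == 0) 3 c3 = true := by decide +kernel

theorem ok5 : okOrdP D rowA (fun u => D.ord u % 7 == 0) 5 c5 = true := by decide +kernel

theorem ok7 : okOrdP D rowA (fun u => D.ord u % 13 == 0) 7 c7 = true := by decide +kernel

theorem card : Nat.card Th = 90745943887872000 := cardTh

theorem rank {E : Subgroup Th} (hE : IsElementaryAbelian 2 E) : Nat.card E ≤ 2 ^ 9 := by
  have := finTh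
  have hs : IsSimpleGroup (alternatingGroup (Fin 9)) := alternatingGroup.isSimpleGroup (by simp)
  obtain ⟨π, H⟩ := KFacts.Th.Main.exists_data KFacts.Th.Main.ctx
  refine Omega.TwoF.LargeRk.rk_of_data H (w := 4) (l := 4) (by rw [KFacts.Th.Main.ctx.cardQ]; norm_num)
    (fun B hB => Omega.TwoF.PermRank.card_le_alt B hB) Th ⊤ ⟨topEquiv⟩ ?_ E fun a ha => by
      rw [← pow_two, hE.2 a ha]
  rw [coe_top, centralizer_univ, Omega.TwoF.LargeRk.center_eq H]

variable {T : TD Th D}

theorem eb_seven (hr : TAB.ON.Rat T) (h2 : ∀ x : Th, orderOf x = 2 → ∃ a, 7 ∣ orderOf (a * x * a⁻¹ * x))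
    {p : ℕ} [Fact p.Prime] (hp : 7 ≠ p) (h3 : 3 ∣ orderOf (p : ZMod 7)) (y : Th) (hy : orderOf y = 7) :
    EB p 1 y 42 := by
  have := finTh
  have : Fact (Nat.Prime 7) := ⟨by norm_num⟩
  refine eb_of_one fun U _ _ _ σ hσ => ?_
  have h4 : ∀ i < D.n, D.ord i = 7 → i ∈ [11] := by decide +kernel
  have h5 : ∀ x : Th, orderOf x = 7 → cod σ (zpowers x) = cod σ (zpowers y) := fun x hx =>
    cod_ty hr ((List.mem_singleton.1 (ty_mem h4 hx)).trans (List.mem_singleton.1 (ty_mem h4 hy)).symm)
  have h6 := cast_ne (p := p) (r := 7) (by norm_num) hp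
  obtain ⟨R, hR⟩ := Sylow.exists_subgroup_card_pow_prime (G := Th) 7 (n := 2) (by rw [card]; norm_num)
  have h7 : ∀ a ∈ R, a ^ 7 = 1 := fun a ha => orderOf_dvd_iff_pow_eq_one.1 (by
    have h7 := hR ▸ R.orderOf_dvd_natCard ha
    rw [T.ord] at h7 ⊢
    exact (by decide +kernel : ∀ i < D.n, D.ord i ∣ 7 ^ 2 → D.ord i ∣ 7) _ (T.lt a) h7)
  have h8 := dvd_cod (ρ := σ) (by norm_num) h6 hR h7 fun a ha h => h5 a (orderOf_eq_prime (h7 a ha) h)
  obtain ⟨t, ht⟩ := exists_prime_orderOf_dvd_card' (G := Th) 2 (by rw [card]; norm_num)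
  obtain ⟨a, ha⟩ := h2 t ht
  have h9 := orderOf_pow_orderOf_div (orderOf_pos _).ne' ha
  have h10 : t⁻¹ = t := inv_eq_of_mul_eq_one_right (by rw [← pow_two, ← ht, pow_orderOf_eq_one])
  have h11 := even_cod (ρ := σ) (g := t) (by rw [h9]; decide) (by rwa [h9]) (by
    rw [← conj_pow, ← inv_pow, ← mul_assoc, mul_inv_cancel_right]
    simp only [mul_inv_rev, inv_inv, h10, mul_assoc])
  rw [h5 _ h9] at h11
  have h12 := pow_cod_modEq (ρ := σ) (s := 7) (X := zpowers y)
    (by rw [Nat.card_zmod]; exact fun e => hp ((Nat.prime_dvd_prime_iff_eq (by norm_num) Fact.out).1 e))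
    (IsPGroup.of_card (n := 1) (by rw [Nat.card_zpowers, hy, pow_one]))
  rw [Nat.card_zmod, ← ZMod.natCast_eq_natCast_iff, Nat.cast_pow, Nat.cast_one, ← orderOf_dvd_iff_pow_eq_one] at h12
  have h13 := h3.trans h12
  have h14 := cod_pos hσ (B := zpowers y) (by rw [Ne, zpowers_eq_bot, ← orderOf_eq_one_iff, hy]; norm_num)
  obtain ⟨c, hc⟩ := h11
  omega

theorem row (p : ℕ) [hp : Fact p.Prime] : Row p Th := by
  have := finTh
  have ho : ¬ p ∣ Nat.card (Out Th) := S2083.result ▸ hp.out.not_dvd_one
  obtain ⟨T, -, hr, -, -, hT⟩ := tab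
  have h1 : T.ty 1 = 0 := ty_one (by decide +kernel)
  have hW := irr_mkRows hT
  have h0 := fun x => exists_prod_dvd h1 hW ok2 (x := x)
  by_cases h2 : p = 2
  · subst h2
    refine row_odd ho S2057.result fun E hE j h3 hj => ?_
    obtain ⟨t, h4, h5⟩ := exists_elt (Nat.zero_lt_of_lt h3) hj
    have h6 := (Nat.pow_le_pow_iff_right one_lt_two).1 (hj ▸ rank hE)
    obtain ⟨a, ha⟩ := h0 t h5
    exact ⟨t, h4, eb_of_dvd ha (eb_seven hr h0 (by norm_num)
      (by rw [(orderOf_eq_iff (n := 3) (by norm_num)).2 (by decide)])) (by omega)⟩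
  by_cases h3 : p = 3
  · subst h3
    refine row_odd ho S2057.result fun E _ j h3 hj => ?_
    obtain ⟨t, h4, h5⟩ := exists_elt (Nat.zero_lt_of_lt h3) hj
    have h6 := le_of_card hj (e := 10) (by rw [card]; norm_num)
    obtain ⟨a, ha⟩ := exists_prod_dvd h1 hW ok3 h5
    exact ⟨t, h4, eb_of_dvd ha (eb_seven hr h0 (by norm_num)
      (by rw [(orderOf_eq_iff (n := 6) (by norm_num)).2 (by decide)]; norm_num)) (by omega)⟩
  by_cases h5 : p = 5
  · subst h5
    refine row_odd ho S2057.result fun E _ j h3 hj => ?_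
    obtain ⟨t, h4, h5⟩ := exists_elt (Nat.zero_lt_of_lt h3) hj
    have h6 := le_of_card hj (e := 3) (by rw [card]; norm_num)
    obtain ⟨a, ha⟩ := exists_prod_dvd h1 hW ok5 h5
    exact ⟨t, h4, eb_of_dvd ha (eb_seven hr h0 (by norm_num)
      (by rw [(orderOf_eq_iff (n := 6) (by norm_num)).2 (by decide)]; norm_num)) (by omega)⟩
  by_cases h7 : p = 7
  · subst h7
    refine row_odd ho S2057.result fun E _ j h3 hj => ?_
    obtain ⟨t, h4, h5⟩ := exists_elt (Nat.zero_lt_of_lt h3) hj
    have h6 := le_of_card hj (e := 2) (by rw [card]; norm_num)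
    obtain ⟨a, ha⟩ := exists_prod_dvd h1 hW ok7 h5
    exact ⟨t, h4, eb_of_dvd (n := 12) ha (fun y hy => eb_ord (by norm_num) (by norm_num) hy (by decide)) (by omega)⟩
  refine row_sq ho S2057.result fun h1 => ?_
  rw [card, show 90745943887872000 = 2 ^ 15 * 3 ^ 10 * 5 ^ 3 * 7 ^ 2 * (13 * 19 * 31) by norm_num] at h1
  have h4 : ∀ {q : ℕ}, q.Prime → p ≠ q → ∀ n, Nat.Coprime (p ^ 2) (q ^ n) := fun hq h n =>
    ((Nat.coprime_primes hp.out hq).2 h).pow _ _
  have h6 := ((((h4 Nat.prime_two h2 15).mul_right (h4 Nat.prime_three h3 10)).mul_right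
    (h4 (by norm_num) h5 3)).mul_right (h4 (by norm_num) h7 2)).dvd_of_dvd_mul_left h1
  have h8 : Squarefree (13 * 19 * 31) := by
    simp only [Nat.squarefree_mul_iff]
    refine ⟨by norm_num, ⟨by norm_num, ?_, ?_⟩, ?_⟩ <;> exact (Nat.Prime.prime (by norm_num)).squarefree
  exact hp.out.one_lt.ne' (Nat.isUnit_iff.1 (h8 p (by rwa [← pow_two])))

end Cfsg.Agent.TwoF.SpD.Th
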